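import Mathlib
import Groth.Prelude.Def_KZero

/-! # Elementary facts on `KZero.K0sub` (helper2) -/

set_option autoImplicit false
universe u v
open CategoryTheory CategoryTheory.Limits

namespace Groth.Agent.Lib.Helper2.K0Dev

variable {A : Type u} [Category.{v} A] [Abelian A] (P : ObjectProperty A)

theorem clSub_eq {X : A} (h : P X) :
    KZero.clSub P X = QuotientAddGroup.mk (FreeAbelianGroup.of (⟨X, h⟩ : Subtype P)) :=
  dif_pos h

theorem clSub_add (S : ShortComplex A) (hS : S.ShortExact) (h₁ : P S.X₁) (h₂ : P S.X₂)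
    (h₃ : P S.X₃) : KZero.clSub P S.X₂ = KZero.clSub P S.X₁ + KZero.clSub P S.X₃ := by
  rw [clSub_eq P h₁, clSub_eq P h₂, clSub_eq P h₃]
  have hmem : FreeAbelianGroup.of (⟨S.X₂, h₂⟩ : Subtype P) - FreeAbelianGroup.of ⟨S.X₁, h₁⟩ -
      FreeAbelianGroup.of ⟨S.X₃, h₃⟩ ∈ KZero.relSub P :=
    AddSubgroup.subset_closure ⟨S, h₁, h₂, h₃, hS, rfl⟩
  have h0 := (QuotientAddGroup.eq_zero_iff _).mpr hmem
  rw [QuotientAddGroup.mk_sub, QuotientAddGroup.mk_sub, sub_sub, sub_eq_zero] at h0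
  exact h0

theorem eq_top_of_forall_clSub_mem (H : AddSubgroup (KZero.K0sub P))
    (h : ∀ (X : A), P X → KZero.clSub P X ∈ H) : H = ⊤ := by
  rw [eq_top_iff]
  rintro x -
  obtain ⟨y, rfl⟩ := QuotientAddGroup.mk_surjective x
  induction y using FreeAbelianGroup.induction_on with
  | zero => exact H.zero_mem
  | of a =>
    have := h a.1 a.2
    rwa [clSub_eq P a.2] at this
  | neg a ha => rw [QuotientAddGroup.mk_neg]; exact H.neg_mem ha
  | add a b ha hb => rw [QuotientAddGroup.mk_add]; exact H.add_mem ha hb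

end Groth.Agent.Lib.Helper2.K0Dev

namespace Groth.Agent.Lib.Helper2.K0Dev

variable {A : Type u} [Category.{v} A] [Abelian A] (P : ObjectProperty A)

theorem clSub_zero {Z : A} (hZ : IsZero Z) (h : P Z) : KZero.clSub P Z = 0 := by
  have hS : (ShortComplex.mk (0 : Z ⟶ Z) (0 : Z ⟶ Z) zero_comp).ShortExact :=
    { exact := ShortComplex.exact_of_isZero_X₂ _ hZ
      mono_f := ⟨fun a b _ => hZ.eq_of_tgt a b⟩
      epi_g := ⟨fun a b _ => hZ.eq_of_src a b⟩ }
  have := clSub_add P _ hS h h h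
  simpa using this

theorem clSub_iso {X Y Z₀ : A} (e : X ≅ Y) (hX : P X) (hY : P Y) (hZ₀ : IsZero Z₀) (h0 : P Z₀) :
    KZero.clSub P X = KZero.clSub P Y := by
  have hS : (ShortComplex.mk (0 : Z₀ ⟶ X) e.hom zero_comp).ShortExact :=
    { exact := (ShortComplex.exact_iff_mono _ rfl).mpr (inferInstanceAs (Mono e.hom))
      mono_f := ⟨fun a b _ => hZ₀.eq_of_tgt a b⟩
      epi_g := inferInstanceAs (Epi e.hom) }
  have := clSub_add P _ hS h0 hX hY
  rw [this, clSub_zero P hZ₀ h0, zero_add]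

end Groth.Agent.Lib.Helper2.K0Dev
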