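import Groth.Agent.Lib.Helper2.K0Dev.Basic
import Groth.Agent.Lib.Helper12.Dev9
import Groth.Agent.Lib.Helper17.CohThick

/-! # `K₀` of coherent modules with supports is generated by generic-length-one classes (helper2) -/

set_option autoImplicit false
universe u v
open CategoryTheory CategoryTheory.Limits AlgebraicGeometry TopologicalSpace Opposite
open Groth.Agent.Lib.Helper29.QCoh Groth.Agent.Lib.Helper12.H12Dev

namespace Groth.Agent.Lib.Helper2.K0Dev

variable {X : Scheme.{u}}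

theorem support_eq_empty_of_isZero {M : X.Modules} (hM : IsZero M) : CohB1.support M = ∅ := by
  ext x
  simp only [Set.mem_empty_iff_false, iff_false]
  rw [notMem_support_iff]
  exact (isZero_iff_stalk_subsingleton M).mp hM x

theorem closure_eq_top [IsNoetherian X]
    (Y' : Set X) {ι : Type u} (F : ι → X.Modules)
    (hF : ∀ a : ι, Coh.IsCoh (F a) ∧ CohB1.support (F a) ⊆ Y')
    (hgen : ∀ (Z : Set X), IsClosed Z → IsIrreducible Z → Z ⊆ Y' → ∀ y : X, closure ({y} : Set X) = Z →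
      ∃ a : ι, CohB1.support (F a) ⊆ Z ∧ Module.length (X.presheaf.stalk y) ((F a).presheaf.stalk y) = 1) :
    AddSubgroup.closure (Set.range fun a : ι =>
        KZero.clSub (fun G : X.Modules => Coh.IsCoh G ∧ CohB1.support G ⊆ Y') (F a)) = ⊤ := by
  set P₀ : ObjectProperty X.Modules := fun G : X.Modules => Coh.IsCoh G ∧ CohB1.support G ⊆ Y' with hP₀
  set H := AddSubgroup.closure (Set.range fun a : ι => KZero.clSub P₀ (F a)) with hH
  let K' : X.Modules → Prop := fun M => P₀ M ∧ KZero.clSub P₀ M ∈ H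
  have hzeroP : ∀ M : X.Modules, IsZero M → P₀ M := fun M hM =>
    ⟨Groth.Agent.Lib.Helper17.CohThick.isCoh_of_isZero X hM, by
      rw [support_eq_empty_of_isZero hM]; exact Set.empty_subset _⟩
  have h0 : ∀ M : X.Modules, IsZero M → K' M := fun M hM =>
    ⟨hzeroP M hM, by rw [clSub_zero P₀ hM (hzeroP M hM)]; exact H.zero_mem⟩
  have h23 : TwoOfThree K' := by
    intro S hS c1 c2 c3
    haveI := hS.mono_f
    haveI := hS.epi_g
    refine ⟨fun k1 k2 => ?_, fun k1 k3 => ?_, fun k2 k3 => ?_⟩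
    · have p3 : P₀ S.X₃ := ⟨c3, (support_subset_of_epi S.g).trans k2.1.2⟩
      refine ⟨p3, ?_⟩
      have h := clSub_add P₀ S hS k1.1 k2.1 p3
      have e : KZero.clSub P₀ S.X₃ = KZero.clSub P₀ S.X₂ - KZero.clSub P₀ S.X₁ := by
        rw [h]; abel
      rw [e]
      exact H.sub_mem k2.2 k1.2
    · have p2 : P₀ S.X₂ := ⟨c2, (support_subset_union_of_exact S hS.exact).trans
        (Set.union_subset k1.1.2 k3.1.2)⟩
      refine ⟨p2, ?_⟩
      rw [clSub_add P₀ S hS k1.1 p2 k3.1]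
      exact H.add_mem k1.2 k3.2
    · have p1 : P₀ S.X₁ := ⟨c1, (support_subset_of_mono S.f).trans k2.1.2⟩
      refine ⟨p1, ?_⟩
      have h := clSub_add P₀ S hS p1 k2.1 k3.1
      have e : KZero.clSub P₀ S.X₁ = KZero.clSub P₀ S.X₂ - KZero.clSub P₀ S.X₃ := by
        rw [h]; abel
      rw [e]
      exact H.sub_mem k2.2 k3.2
  have hiso : ∀ M N : X.Modules, (M ≅ N) → K' M → K' N := by
    intro M N e hM
    have pN : P₀ N := ⟨isCoh_of_iso e hM.1.1, (support_eq_of_iso e) ▸ hM.1.2⟩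
    refine ⟨pN, ?_⟩
    obtain ⟨Z₀, hZ₀⟩ : ∃ Z₀ : X.Modules, IsZero Z₀ := ⟨_, isZero_zero _⟩
    rw [← clSub_iso P₀ e hM.1 pN hZ₀ (hzeroP Z₀ hZ₀)]
    exact hM.2
  refine eq_top_of_forall_clSub_mem P₀ H (fun M hM => ?_)
  refine (devissage_core (K' := K') h0 h23.extClosed Y' ?_ M hM.1 hM.2).2
  intro Z hZ hirr hZY y hy hsmall T hT hTsupp hTs
  obtain ⟨a, haZ, hlen⟩ := hgen Z hZ hirr hZY y hy
  have hGs : IsSimpleModule (X.presheaf.stalk y) ((F a).presheaf.stalk y) :=
    Module.length_eq_one_iff.mp hlen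
  have hKG : K' (F a) := ⟨hF a, AddSubgroup.subset_closure ⟨a, rfl⟩⟩
  exact mem_of_simple_stalks hiso h23 Z y hsmall (F a) (hF a).1 hKG haZ hGs T hT hTsupp hTs

end Groth.Agent.Lib.Helper2.K0Dev
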